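import Mathlib
import Groth.Prelude.Def_W4c1etcurveeff2TopGrp

/-!
# Characters of exponent `n` of a topologically finitely generated group
-/

set_option autoImplicit false

open W4c1etcurveeff2 commutatorElement

universe u

namespace Groth.Agent.PowCommLib

section Dual

variable {A : Type u} [CommGroup A] [Finite A] {n : ℕ} [NeZero n] (hn : ∀ a : A, a ^ n = 1)

/-- An embedding of the cyclic group of order `n` in the units of `ℂ`. -/
theorem exists_emb (n : ℕ) [NeZero n] : ∃ ι : Multiplicative (ZMod n) →* ℂˣ,
    Function.Injective ι ∧ ∀ z : ℂˣ, z ^ n = 1 → z ∈ Set.range ι := by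
  obtain ⟨ζ, hζ⟩ := HasEnoughRootsOfUnity.exists_primitiveRoot ℂ n
  lift ζ to ℂˣ using hζ.isUnit (NeZero.ne n)
  have hζ' : IsPrimitiveRoot ζ n := IsPrimitiveRoot.coe_units_iff.1 hζ
  let e := AddEquiv.toMultiplicativeLeft hζ'.zmodEquivZPowers
  refine ⟨(Subgroup.zpowers ζ).subtype.comp e.toMonoidHom, ?_, fun z hz => ?_⟩
  · exact Subtype.val_injective.comp e.injective
  · have : z ∈ Subgroup.zpowers ζ := by rw [hζ'.zpowers_eq]; exact (mem_rootsOfUnity n z).2 hz
    exact ⟨e.symm ⟨z, this⟩, by simp⟩

include hn in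
theorem hasRoots : HasEnoughRootsOfUnity ℂ (Monoid.exponent A) := by
  haveI : NeZero (Monoid.exponent A) := ⟨Monoid.exponent_ne_zero_of_finite⟩
  infer_instance

include hn in
theorem dual_separates {a : A} (ha : a ≠ 1) : ∃ χ : A →* Multiplicative (ZMod n), χ a ≠ 1 := by
  classical
  obtain ⟨ι, hι, hr⟩ := exists_emb n
  haveI := hasRoots hn
  obtain ⟨φ, hφ⟩ := CommGroup.exists_apply_ne_one_of_hasEnoughRootsOfUnity A ℂ ha
  have hmem : ∀ x, φ x ∈ ι.range := fun x => hr _ (by rw [← map_pow, hn, map_one])
  let χ : A →* Multiplicative (ZMod n) :=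
    (MonoidHom.ofInjective hι).symm.toMonoidHom.comp (φ.codRestrict ι.range hmem)
  refine ⟨χ, fun h => hφ ?_⟩
  have : ι (χ a) = φ a := MonoidHom.apply_ofInjective_symm hι _
  rw [← this, h, map_one]

include hn in
theorem dual_surjective (F : (A →* Multiplicative (ZMod n)) →* Multiplicative (ZMod n)) :
    ∃ a : A, ∀ χ, F χ = χ a := by
  classical
  obtain ⟨ι, hι, hr⟩ := exists_emb n
  haveI := hasRoots hn
  have hmem : ∀ (φ : A →* ℂˣ) x, φ x ∈ ι.range := fun φ x => hr _ (by rw [← map_pow, hn, map_one])
  let e : (A →* ℂˣ) →* (A →* Multiplicative (ZMod n)) :=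
    { toFun := fun φ => (MonoidHom.ofInjective hι).symm.toMonoidHom.comp (φ.codRestrict ι.range (hmem φ))
      map_one' := MonoidHom.ext fun x => hι <| by
        simp only [MonoidHom.coe_comp, Function.comp_apply, MulEquiv.coe_toMonoidHom,
          MonoidHom.apply_ofInjective_symm, MonoidHom.one_apply, map_one]
        rfl
      map_mul' := fun φ ψ => MonoidHom.ext fun x => hι <| by
        simp only [MonoidHom.coe_comp, Function.comp_apply, MulEquiv.coe_toMonoidHom,
          MonoidHom.apply_ofInjective_symm, MonoidHom.mul_apply, map_mul]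
        rfl }
  refine ⟨CommGroup.monoidHomMonoidHomEquiv A ℂ ((ι.comp F).comp e), fun χ => hι ?_⟩
  have h := CommGroup.apply_monoidHomMonoidHomEquiv (G := A) (M := ℂ) (ι.comp χ) ((ι.comp F).comp e)
  have he : e (ι.comp χ) = χ := MonoidHom.ext fun x => hι (MonoidHom.apply_ofInjective_symm hι _)
  refine Eq.trans ?_ h.symm
  rw [MonoidHom.comp_apply, MonoidHom.comp_apply, he]

end Dual

section Top

variable {G : Type u} [Group G] [TopologicalSpace G] [IsTopologicalGroup G] (n : ℕ)

instance normal_powCommClosure : (powCommClosure G n).Normal := by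
  haveI : (Subgroup.closure (Set.range fun g : G => g ^ n) ⊔ commutator G).Normal :=
    Subgroup.Normal.of_commutator_le _ le_sup_right
  exact Subgroup.is_normal_topologicalClosure _

theorem pow_mem_powCommClosure (g : G) : g ^ n ∈ powCommClosure G n :=
  Subgroup.le_topologicalClosure _ (le_sup_left (α := Subgroup G) (Subgroup.subset_closure ⟨g, rfl⟩))

theorem commutator_le_powCommClosure : commutator G ≤ powCommClosure G n :=
  le_sup_right.trans (Subgroup.le_topologicalClosure _)

theorem powCommClosure_le {H : Subgroup G} (hH : IsClosed (H : Set G)) (hp : ∀ g : G, g ^ n ∈ H)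
    (hc : commutator G ≤ H) : powCommClosure G n ≤ H := by
  refine Subgroup.topologicalClosure_minimal _ (sup_le ?_ hc) hH
  rw [Subgroup.closure_le]
  rintro _ ⟨g, rfl⟩
  exact hp g

theorem powCommClosure_le_ker [NeZero n] {χ : G →* Multiplicative (ZMod n)}
    (hχ : IsOpen ((χ.ker : Subgroup G) : Set G)) : powCommClosure G n ≤ χ.ker := by
  refine powCommClosure_le n (Subgroup.isClosed_of_isOpen _ hχ) (fun g => ?_) (Abelianization.commutator_subset_ker χ)
  rw [MonoidHom.mem_ker, map_pow]
  apply Multiplicative.toAdd.injective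
  rw [toAdd_pow, toAdd_one]
  simp

/-- The quotient of a topologically finitely generated group by `powCommClosure` is finite. -/
theorem finite_quotient [NeZero n] (s : Finset G)
    (hs : Dense ((Subgroup.closure (s : Set G) : Subgroup G) : Set G)) :
    Finite (G ⧸ powCommClosure G n) := by
  let S := powCommClosure G n
  haveI : IsClosed (S : Set G) := isClosed_closure
  letI : CommGroup (G ⧸ S) :=
    { (inferInstance : Group (G ⧸ S)) with
      mul_comm := fun a b => by
        obtain ⟨a, rfl⟩ := QuotientGroup.mk_surjective a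
        obtain ⟨b, rfl⟩ := QuotientGroup.mk_surjective b
        rw [← QuotientGroup.mk_mul, ← QuotientGroup.mk_mul, QuotientGroup.eq]
        apply commutator_le_powCommClosure n
        have h : (a * b)⁻¹ * (b * a) = ⁅b⁻¹, a⁻¹⁆ := by rw [commutatorElement_def]; group
        rw [h, commutator_def]
        exact Subgroup.commutator_mem_commutator (Subgroup.mem_top _) (Subgroup.mem_top _) }
  let K : Subgroup (G ⧸ S) := (Subgroup.closure (s : Set G)).map (QuotientGroup.mk' S)
  have hK : K.FG := by
    classical
    refine ⟨s.image (QuotientGroup.mk' S), ?_⟩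
    rw [Finset.coe_image]
    exact (MonoidHom.map_closure _ _).symm
  haveI : Group.FG K := Group.fg_iff_subgroup_fg K |>.2 hK
  haveI : Finite K := CommGroup.finite_of_fg_torsion K fun x => by
    refine isOfFinOrder_iff_pow_eq_one.2 ⟨n, Nat.pos_of_ne_zero (NeZero.ne n), Subtype.ext ?_⟩
    obtain ⟨g, hg⟩ := QuotientGroup.mk_surjective (x : G ⧸ S)
    rw [SubgroupClass.coe_pow, ← hg, ← QuotientGroup.mk_pow, OneMemClass.coe_one, QuotientGroup.eq_one_iff]
    exact pow_mem_powCommClosure n g
  have hd : Dense (K : Set (G ⧸ S)) :=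
    (QuotientGroup.mk_surjective (s := S)).denseRange.dense_image QuotientGroup.continuous_mk hs
  have hK' : (K : Set (G ⧸ S)) = Set.univ := by
    rw [← hd.closure_eq]
    exact (Set.toFinite (K : Set (G ⧸ S))).isClosed.closure_eq.symm
  exact Finite.of_injective (fun x : G ⧸ S => (⟨x, by rw [← SetLike.mem_coe, hK']; trivial⟩ : K))
    fun a b h => congrArg Subtype.val h

theorem isOpen_powCommClosure [NeZero n] (s : Finset G)
    (hs : Dense ((Subgroup.closure (s : Set G) : Subgroup G) : Set G)) :
    IsOpen (powCommClosure G n : Set G) := by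
  haveI := finite_quotient n s hs
  haveI : (powCommClosure G n).FiniteIndex := Subgroup.finiteIndex_of_finite_quotient
  exact Subgroup.isOpen_of_isClosed_of_finiteIndex _ isClosed_closure

end Top

end Groth.Agent.PowCommLib
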